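import Mathlib

/-!
# An idempotent-free criterion: a closed immersion of affines is open near a point with zero conormal stalk
-/

set_option autoImplicit false
universe u

open CategoryTheory AlgebraicGeometry TensorProduct

namespace GrothLib.ConormalZero1

variable {B : Type u} [CommRing B] (I : Ideal B) (q : PrimeSpectrum (B ⧸ I))

/-- The closed immersion is locally an open immersion at `q` when every element of `I` is killed near `q`. -/
theorem exists_open_of_killed (hfg : I.FG)
    (h : ∀ a ∈ I, ∃ b : B, Ideal.Quotient.mk I b ∉ q.asIdeal ∧ b * a = 0) :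
    ∃ U : (Spec (CommRingCat.of (B ⧸ I))).Opens, q ∈ U ∧
      IsOpenImmersion (U.ι ≫ Spec.map (CommRingCat.ofHom (Ideal.Quotient.mk I))) := by
  classical
  obtain ⟨s, hs⟩ := hfg
  choose c hc hca using fun (a : s) => h a.1 (hs ▸ Ideal.subset_span a.2)
  let b := ∏ a : s, c a
  have hbq : Ideal.Quotient.mk I b ∉ q.asIdeal := by
    rw [map_prod]
    exact fun hm => by
      obtain ⟨a, -, ha⟩ := (q.2.prod_mem_iff).1 hm
      exact hc a ha
  have hbI : ∀ a ∈ I, b * a = 0 := by
    intro a ha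
    rw [← hs] at ha
    induction ha using Submodule.span_induction with
    | mem x hx =>
      show (∏ a : s, c a) * x = 0
      rw [← Finset.prod_erase_mul Finset.univ c (Finset.mem_univ (⟨x, hx⟩ : s)), mul_assoc, hca ⟨x, hx⟩, mul_zero]
    | zero => rw [mul_zero]
    | add x y _ _ hx hy => rw [mul_add, hx, hy, add_zero]
    | smul r x _ hx => rw [smul_eq_mul, mul_left_comm, hx, mul_zero]
  let L := Localization.Away (Ideal.Quotient.mk I b)
  haveI hL : IsLocalization.Away b L := by
    refine ⟨fun ⟨y, n, hn⟩ => ?_, fun z => ?_, fun {c₁ c₂} heq => ?_⟩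
    · subst hn
      rw [IsScalarTower.algebraMap_apply B (B ⧸ I) L, Ideal.Quotient.algebraMap_eq]
      rw [map_pow, map_pow]
      exact (IsLocalization.Away.algebraMap_isUnit _).pow n
    · obtain ⟨c, m, hm⟩ := IsLocalization.exists_mk'_eq (Submonoid.powers (Ideal.Quotient.mk I b)) z
      obtain ⟨c, rfl⟩ := Ideal.Quotient.mk_surjective c
      obtain ⟨n, hn⟩ := m.2
      refine ⟨⟨c, b ^ n, n, rfl⟩, ?_⟩
      rw [IsScalarTower.algebraMap_apply B (B ⧸ I) L, IsScalarTower.algebraMap_apply B (B ⧸ I) L,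
        Ideal.Quotient.algebraMap_eq, map_pow, ← hm]
      simp only at hn ⊢
      rw [hn, IsLocalization.mk'_spec]
    · rw [IsScalarTower.algebraMap_apply B (B ⧸ I) L, IsScalarTower.algebraMap_apply B (B ⧸ I) L,
        Ideal.Quotient.algebraMap_eq] at heq
      obtain ⟨⟨y, n, hn⟩, hy⟩ := IsLocalization.exists_of_eq (M := Submonoid.powers (Ideal.Quotient.mk I b)) heq
      simp only at hy
      subst hn
      simp only [← map_pow, ← map_mul] at hy
      rw [← sub_eq_zero, ← map_sub, Ideal.Quotient.eq_zero_iff_mem, ← mul_sub] at hy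
      refine ⟨⟨b ^ (n + 1), n + 1, rfl⟩, ?_⟩
      show b ^ (n + 1) * c₁ = b ^ (n + 1) * c₂
      rw [← sub_eq_zero, ← mul_sub, pow_succ', mul_assoc]
      exact hbI _ hy
  let g : Spec (CommRingCat.of L) ⟶ Spec (CommRingCat.of (B ⧸ I)) :=
    Spec.map (CommRingCat.ofHom (algebraMap (B ⧸ I) L))
  haveI : IsOpenImmersion g := IsOpenImmersion.of_isLocalization (Ideal.Quotient.mk I b)
  have hcomp : g ≫ Spec.map (CommRingCat.ofHom (Ideal.Quotient.mk I)) =
      Spec.map (CommRingCat.ofHom (algebraMap B L)) := by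
    rw [← Spec.map_comp, ← CommRingCat.ofHom_comp]
  haveI : IsOpenImmersion (Spec.map (CommRingCat.ofHom (algebraMap B L))) := IsOpenImmersion.of_isLocalization b
  refine ⟨g.opensRange, ?_, ?_⟩
  · show q ∈ Set.range g
    exact (PrimeSpectrum.localization_away_comap_range L (Ideal.Quotient.mk I b)).symm.subset hbq
  · rw [← Scheme.Hom.isoOpensRange_inv_comp g, Category.assoc, hcomp]
    infer_instance

/-- An element of `I` is killed near `q` when the conormal module vanishes at `q`. -/
theorem killed_of_subsingleton (hfg : I.FG)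
    (h : q ∉ Module.support (B ⧸ I) ((B ⧸ I) ⊗[B] I)) :
    ∀ a ∈ I, ∃ b : B, Ideal.Quotient.mk I b ∉ q.asIdeal ∧ b * a = 0 := by
  let p := q.asIdeal.comap (Ideal.Quotient.mk I)
  have hIp : I ≤ p := fun x hx => by
    show Ideal.Quotient.mk I x ∈ q.asIdeal
    rw [Ideal.Quotient.eq_zero_iff_mem.2 hx]; exact zero_mem _
  let P := Localization.AtPrime p
  have hle : I.map (algebraMap B P) ≤ I.map (algebraMap B P) • I.map (algebraMap B P) := by
    rw [smul_eq_mul, ← Ideal.map_mul, Ideal.map_le_iff_le_comap]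
    intro a ha
    obtain ⟨s, hs, hsa⟩ := Module.notMem_support_iff'.1 h ((1 : B ⧸ I) ⊗ₜ[B] ⟨a, ha⟩)
    obtain ⟨b, rfl⟩ := Ideal.Quotient.mk_surjective s
    have h2 := congrArg (TensorProduct.quotTensorEquivQuotSMul I I) hsa
    rw [map_zero, show (Ideal.Quotient.mk I b) • ((1 : B ⧸ I) ⊗ₜ[B] (⟨a, ha⟩ : I)) =
      (Ideal.Quotient.mk I b) ⊗ₜ[B] (⟨a, ha⟩ : I) by rw [TensorProduct.smul_tmul', smul_eq_mul, mul_one],
      TensorProduct.quotTensorEquivQuotSMul_mk_tmul, Submodule.Quotient.mk_eq_zero,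
      Submodule.mem_smul_top_iff I I] at h2
    rw [Ideal.mem_comap]
    have hu : IsUnit (algebraMap B P b) := IsLocalization.map_units P (⟨b, hs⟩ : p.primeCompl)
    have h3 := Ideal.mem_map_of_mem (algebraMap B P) h2
    change algebraMap B P (b * a) ∈ _ at h3
    rw [map_mul] at h3
    exact (Ideal.unit_mul_mem_iff_mem _ hu).1 h3
  have h0 : I.map (algebraMap B P) = ⊥ :=
    Submodule.eq_bot_of_le_smul_of_le_jacobson_bot _ _ (hfg.map _) hle (by
      rw [IsLocalRing.jacobson_eq_maximalIdeal ⊥ bot_ne_top, ← Localization.AtPrime.map_eq_maximalIdeal]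
      exact Ideal.map_mono hIp)
  intro a ha
  have h1 : algebraMap B P a = 0 := by
    rw [← Ideal.mem_bot, ← h0]; exact Ideal.mem_map_of_mem _ ha
  obtain ⟨⟨b, hb⟩, hba⟩ := (IsLocalization.map_eq_zero_iff p.primeCompl P a).1 h1
  exact ⟨b, hb, hba⟩

/-- If the stalk map is injective, every element of `I` is killed near `q`. -/
theorem subsingleton_of_killed
    (h : ∀ a ∈ I, ∃ b : B, Ideal.Quotient.mk I b ∉ q.asIdeal ∧ b * a = 0) :
    q ∉ Module.support (B ⧸ I) ((B ⧸ I) ⊗[B] I) := by
  rw [Module.notMem_support_iff']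
  intro m
  induction m using TensorProduct.induction_on with
  | zero => exact ⟨1, q.2.one_notMem, smul_zero _⟩
  | tmul x a =>
    obtain ⟨b, hb, hba⟩ := h a.1 a.2
    refine ⟨Ideal.Quotient.mk I b, hb, ?_⟩
    rw [← Ideal.Quotient.algebraMap_eq, algebraMap_smul, ← TensorProduct.tmul_smul,
      show b • a = 0 from Subtype.ext hba, TensorProduct.tmul_zero]
  | add x y hx hy =>
    obtain ⟨s, hs, hsx⟩ := hx
    obtain ⟨t, ht, hty⟩ := hy
    refine ⟨s * t, q.2.mul_notMem hs ht, ?_⟩
    rw [smul_add, mul_comm s t, mul_smul, hsx, smul_zero, mul_comm t s, mul_smul, hty, smul_zero, add_zero]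

end GrothLib.ConormalZero1
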